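import Mathlib

/-!
Bounds on orders of isometries of non-degenerate quadratic forms over finite fields.
-/

set_option autoImplicit false
set_option maxHeartbeats 1000000

namespace Cfsg.Agent.OrthOrders

open Polynomial

theorem prod_two_pow {q : ℕ} (hq : 1 ≤ q) (N : ℕ) :
    (q - 1) * ∏ k ∈ Finset.range N, (q ^ 2 ^ k + 1) + 1 = q ^ 2 ^ N := by
  induction N with
  | zero => simp; omega
  | succ N ih =>
    set P := ∏ k ∈ Finset.range N, (q ^ 2 ^ k + 1) with hP
    rw [Finset.prod_range_succ, ← hP, pow_succ 2 N, pow_mul, ← mul_assoc, ← ih]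
    ring

theorem prod_subset_le {q : ℕ} (hq : 2 ≤ q) (K : Finset ℕ) (hK : ∀ a ∈ K, ∃ k, a = 2 ^ k) :
    (q - 1) * ∏ a ∈ K, (q ^ a + 1) ≤ q ^ (∑ a ∈ K, a + 1) := by
  set N := K.sup id + 1
  set P := (Finset.range N).image fun k => 2 ^ k
  have hsub : K ⊆ P := fun a ha => by
    obtain ⟨k, rfl⟩ := hK a ha
    refine Finset.mem_image.2 ⟨k, Finset.mem_range.2 ?_, rfl⟩
    have h1 := Finset.le_sup (f := id) ha
    have h2 := Nat.lt_two_pow_self (n := k)
    simp only [id_eq] at h1
    omega
  have hinj : Set.InjOn (fun k => 2 ^ k) (Finset.range N : Set ℕ) :=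
    fun a _ b _ h => Nat.pow_right_injective le_rfl h
  have h1 : (q - 1) * ∏ a ∈ P, (q ^ a + 1) + 1 = q ^ 2 ^ N := by
    rw [Finset.prod_image hinj]; exact prod_two_pow (by omega) N
  have h2 : ∑ a ∈ P, a + 1 = 2 ^ N := by
    rw [Finset.sum_image hinj]
    exact (congrArg (· + 1) (Nat.geomSum_eq le_rfl N)).trans (by
      have := Nat.one_le_two_pow (n := N)
      simp; omega)
  rw [← Finset.prod_sdiff hsub] at h1
  rw [← Finset.sum_sdiff hsub, add_assoc] at h2
  rw [← h2, pow_add] at h1
  have h3 : q ^ (∑ a ∈ P \ K, a) ≤ ∏ a ∈ P \ K, (q ^ a + 1) := by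
    rw [← Finset.prod_pow_eq_pow_sum]
    exact Finset.prod_le_prod (fun _ _ => Nat.zero_le _) fun a _ => Nat.le_succ _
  refine Nat.le_of_mul_le_mul_left ?_ (show 0 < q ^ (∑ a ∈ P \ K, a) by positivity)
  calc q ^ (∑ a ∈ P \ K, a) * ((q - 1) * ∏ a ∈ K, (q ^ a + 1))
      ≤ (∏ a ∈ P \ K, (q ^ a + 1)) * ((q - 1) * ∏ a ∈ K, (q ^ a + 1)) := Nat.mul_le_mul_right _ h3
    _ = (q - 1) * ((∏ a ∈ P \ K, (q ^ a + 1)) * ∏ a ∈ K, (q ^ a + 1)) := by ring
    _ ≤ _ := by omega

/-- A common multiple of the numbers `q ^ d ± 1`. -/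
theorem lcm_bound {q : ℕ} (hq : 2 ≤ q) {ι : Type*} (I : Finset ι) (d : ι → ℕ) (pl : ι → Bool)
    (hd : ∀ i ∈ I, 1 ≤ d i) :
    ∃ L, 0 < L ∧ (∀ i ∈ I, (if pl i then q ^ d i + 1 else q ^ d i - 1) ∣ L) ∧
      (q - 1) * L ≤ q ^ (∑ i ∈ I, d i + 1) := by
  classical
  let a : ι → ℕ := fun i => 2 ^ padicValNat 2 (d i)
  set Ip := I.filter fun i => pl i = true
  set Im := I.filter fun i => ¬pl i = true
  set K := Ip.image a
  have hdiv : ∀ i ∈ I, q ^ a i + 1 ∣ q ^ d i + 1 ∧ a i ≤ d i ∧ 1 ≤ a i := fun i hi => by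
    obtain ⟨c, hc⟩ : a i ∣ d i := pow_padicValNat_dvd
    have hodd : Odd c := by
      rw [← Nat.not_even_iff_odd]
      rintro ⟨e, rfl⟩
      refine pow_succ_padicValNat_not_dvd (p := 2) (Nat.one_le_iff_ne_zero.1 (hd i hi)) ⟨e, ?_⟩
      rw [pow_succ]
      exact hc.trans (by simp only [a]; ring)
    refine ⟨?_, Nat.le_of_dvd (hd i hi) pow_padicValNat_dvd, Nat.one_le_two_pow⟩
    rw [hc, pow_mul]
    simpa using hodd.nat_add_dvd_pow_add_pow (q ^ a i) 1
  have hqd : ∀ i ∈ I, 0 < q ^ d i - 1 := fun i hi => by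
    have : q ≤ q ^ d i := Nat.le_self_pow (Nat.one_le_iff_ne_zero.1 (hd i hi)) q
    omega
  let h : ι → ℕ := fun i => (q ^ d i + 1) / (q ^ a i + 1)
  have hh : ∀ i ∈ I, q ^ d i + 1 = (q ^ a i + 1) * h i := fun i hi => (Nat.mul_div_cancel' (hdiv i hi).1).symm
  refine ⟨(∏ b ∈ K, (q ^ b + 1)) * ((∏ i ∈ Ip, h i) * ∏ i ∈ Im, (q ^ d i - 1)), ?_, fun i hi => ?_, ?_⟩
  · refine Nat.mul_pos (Finset.prod_pos fun b _ => by positivity) (Nat.mul_pos (Finset.prod_pos fun i hi => ?_)
      (Finset.prod_pos fun i hi => hqd i (Finset.mem_filter.1 hi).1))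
    have e := hh i (Finset.mem_filter.1 hi).1
    rcases Nat.eq_zero_or_pos (h i) with h0 | h0
    · rw [h0, mul_zero] at e; omega
    · exact h0
  · split_ifs with hp
    · rw [hh i hi]
      exact mul_dvd_mul (Finset.dvd_prod_of_mem _ (Finset.mem_image_of_mem a (Finset.mem_filter.2 ⟨hi, hp⟩)))
        (dvd_mul_of_dvd_left (Finset.dvd_prod_of_mem _ (Finset.mem_filter.2 ⟨hi, hp⟩)) _)
    · exact dvd_mul_of_dvd_right (dvd_mul_of_dvd_right
        (Finset.dvd_prod_of_mem (fun i => q ^ d i - 1) (Finset.mem_filter.2 ⟨hi, hp⟩)) _) _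
  · have h1 : ∏ i ∈ Ip, h i ≤ q ^ (∑ i ∈ Ip, (d i - a i)) := by
      rw [← Finset.prod_pow_eq_pow_sum]
      refine Finset.prod_le_prod (fun _ _ => Nat.zero_le _) fun i hi => ?_
      have hi' := (Finset.mem_filter.1 hi).1
      refine Nat.div_le_of_le_mul ?_
      rw [add_mul, ← pow_add, Nat.add_sub_cancel' (hdiv i hi').2.1, one_mul]
      exact Nat.add_le_add_left (Nat.one_le_pow _ _ (by omega)) _
    have h2 : ∏ i ∈ Im, (q ^ d i - 1) ≤ q ^ (∑ i ∈ Im, d i) := by
      rw [← Finset.prod_pow_eq_pow_sum]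
      exact Finset.prod_le_prod (fun _ _ => Nat.zero_le _) fun i _ => Nat.sub_le _ _
    have h3 : ∑ b ∈ K, b ≤ ∑ i ∈ Ip, a i := Finset.sum_image_le_of_nonneg fun _ _ => Nat.zero_le _
    have h4 : ∑ i ∈ Ip, (d i - a i) + ∑ i ∈ Ip, a i = ∑ i ∈ Ip, d i := by
      rw [← Finset.sum_add_distrib]
      exact Finset.sum_congr rfl fun i hi => Nat.sub_add_cancel (hdiv i (Finset.mem_filter.1 hi).1).2.1
    have h5 := prod_subset_le hq K (fun b hb => by
      obtain ⟨i, -, rfl⟩ := Finset.mem_image.1 hb
      exact ⟨_, rfl⟩)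
    calc (q - 1) * ((∏ b ∈ K, (q ^ b + 1)) * ((∏ i ∈ Ip, h i) * ∏ i ∈ Im, (q ^ d i - 1)))
        = ((q - 1) * ∏ b ∈ K, (q ^ b + 1)) * ((∏ i ∈ Ip, h i) * ∏ i ∈ Im, (q ^ d i - 1)) := by ring
      _ ≤ q ^ (∑ b ∈ K, b + 1) * (q ^ (∑ i ∈ Ip, (d i - a i)) * q ^ (∑ i ∈ Im, d i)) := by gcongr
      _ = q ^ (∑ b ∈ K, b + 1 + (∑ i ∈ Ip, (d i - a i) + ∑ i ∈ Im, d i)) := by ring
      _ ≤ _ := Nat.pow_le_pow_right (by omega) (by
        have := Finset.sum_filter_add_sum_filter_not I (fun i => pl i = true) d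
        change ∑ i ∈ Ip, d i + ∑ i ∈ Im, d i = _ at this
        omega)

theorem roots_reverse_prod {K : Type*} [Field K] (s : Multiset K) (hs : (0 : K) ∉ s) :
    ((s.map fun a => X - C a).prod).reverse.roots = s.map (·⁻¹) := by
  induction s using Multiset.induction with
  | empty => rw [Multiset.map_zero, Multiset.prod_zero, ← C_1, reverse_C, roots_C, Multiset.map_zero]
  | cons a s ih =>
    simp only [Multiset.mem_cons, not_or] at hs
    rw [Multiset.map_cons, Multiset.prod_cons, reverse_mul_of_domain, Multiset.map_cons]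
    have h1 : (X - C a).reverse = C (-a) * (X - C a⁻¹) := by
      rw [mul_sub, ← C_mul, neg_mul, mul_inv_cancel₀ (Ne.symm hs.1)]
      ext n
      rw [coeff_reverse, natDegree_X_sub_C]
      rcases n with _ | _ | n
      · rw [revAt_le (Nat.zero_le 1)]; simp
      · rw [revAt_le le_rfl]; simp [coeff_one]
      · rw [show revAt 1 (n + 1 + 1) = n + 1 + 1 from (if_neg (by omega : ¬ n + 1 + 1 ≤ 1) : revAtFun 1 (n + 1 + 1) = _)]
        simp [coeff_X, coeff_one]
    have h0 : ((s.map fun a => X - C a).prod).reverse ≠ 0 := by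
      rw [Ne, reverse_eq_zero, Multiset.prod_eq_zero_iff]
      simp [X_sub_C_ne_zero]
    rw [roots_mul (mul_ne_zero ?_ h0), ih hs.2, h1, roots_C_mul _ (neg_ne_zero.2 (Ne.symm hs.1)), roots_X_sub_C,
      Multiset.singleton_add]
    rw [h1]
    exact mul_ne_zero (C_ne_zero.2 (neg_ne_zero.2 (Ne.symm hs.1))) (X_sub_C_ne_zero _)

/-- The element-order bound. -/
theorem orderOf_le {ι : Type*} [Fintype ι] [DecidableEq ι] {F : Type*} [Field F] [Fintype F]
    (Q : QuadraticForm F (ι → F)) (hQ : (QuadraticMap.polarBilin Q).Nondegenerate) (g : GL ι F)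
    (hg : ∀ v, Q (Matrix.mulVec (g : Matrix ι ι F) v) = Q v) {m : ℕ} (hm : 3 ≤ m) (hn : Fintype.card ι ≤ 2 * m + 1)
    (hev : (2 : F) = 0 → Fintype.card ι ≤ 2 * m) :
    (Fintype.card F - 1) * orderOf g ≤ Fintype.card F ^ (m + 1) := by
  classical
  set q := Fintype.card F with hqd
  have hq2 : 2 ≤ q := Fintype.one_lt_card
  obtain ⟨p, hp⟩ := CharP.exists F
  obtain ⟨⟨f, hf⟩, hpp, hcard⟩ := FiniteField.card F p
  change q = p ^ f at hcard
  haveI : Fact p.Prime := ⟨hpp⟩
  let E := AlgebraicClosure F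
  haveI : CharP E p := charP_of_injective_algebraMap (algebraMap F E).injective p
  haveI : ExpChar E p := ExpChar.prime hpp
  let φ : E →+* E := iterateFrobenius E p f
  have hφ : ∀ x, φ x = x ^ q := fun x => by rw [hcard]; exact iterateFrobenius_def p f x
  set A : Matrix ι ι F := (g : Matrix ι ι F)
  set P : F[X] := A.charpoly with hPd
  set M : Multiset E := (P.map (algebraMap F E)).roots with hMd
  have hPm : P.Monic := Matrix.charpoly_monic A
  have hsplit : (P.map (algebraMap F E)).Splits := IsAlgClosed.splits _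
  have hMcard : M.card = Fintype.card ι := by
    rw [hMd, ← hsplit.natDegree_eq_card_roots, natDegree_map, hPd, Matrix.charpoly_natDegree_eq_dim]
  have hprod : P.map (algebraMap F E) = (M.map fun a => X - C a).prod := hsplit.eq_prod_roots_of_monic (hPm.map _)
  have hA : (A.map (algebraMap F E)).charpoly = P.map (algebraMap F E) := Matrix.charpoly_map A _
  have hdet : (A.map (algebraMap F E)).det ≠ 0 := by
    rw [← RingHom.mapMatrix_apply, ← RingHom.map_det]
    exact (_root_.map_ne_zero _).2 (g.isUnit.map Matrix.detMonoidHom).ne_zero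
  have h0 : (0 : E) ∉ M := fun h => hdet (by
    rw [Matrix.det_eq_prod_roots_charpoly, hA]
    exact Multiset.prod_eq_zero h)
  -- invariance under inversion
  have hBm : ∃ B : Matrix ι ι F, IsUnit B ∧ A.transpose * B * A = B := by
    refine ⟨LinearMap.toMatrix₂' F (QuadraticMap.polarBilin Q), ?_, ?_⟩
    · rw [Matrix.isUnit_iff_isUnit_det, isUnit_iff_ne_zero]
      exact (LinearMap.BilinForm.nondegenerate_toMatrix'_iff.2 hQ).det_ne_zero
    · have e : (QuadraticMap.polarBilin Q).compl₁₂ (Matrix.toLin' A) (Matrix.toLin' A) = QuadraticMap.polarBilin Q :=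
        LinearMap.ext₂ fun u v => by
          simp only [LinearMap.compl₁₂_apply, QuadraticMap.polarBilin_apply_apply, Matrix.toLin'_apply,
            QuadraticMap.polar, ← Matrix.mulVec_add]
          rw [show Q (A.mulVec (u + v)) = Q (u + v) from hg _, show Q (A.mulVec u) = Q u from hg u,
            show Q (A.mulVec v) = Q v from hg v]
      have e' := congrArg (LinearMap.toMatrix₂' F) e
      rw [LinearMap.toMatrix₂'_compl₁₂, LinearMap.toMatrix'_toLin'] at e'
      exact e'
  have hinvP : (A⁻¹).charpoly = P := by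
    obtain ⟨B, ⟨b, rfl⟩, e⟩ := hBm
    have h1 : A.transpose = (b : Matrix ι ι F) * A⁻¹ * (b⁻¹ : (Matrix ι ι F)ˣ) := by
      have hAi : A * A⁻¹ = 1 := Matrix.mul_nonsing_inv _ (g.isUnit.map Matrix.detMonoidHom)
      conv_rhs => enter [1, 1]; rw [← e]
      rw [Matrix.mul_assoc (A.transpose * (b : Matrix ι ι F)), hAi, Matrix.mul_one, Matrix.mul_assoc, Units.mul_inv,
        Matrix.mul_one]
    rw [hPd, ← Matrix.charpoly_transpose A, h1, Matrix.coe_units_inv, Matrix.charpoly_units_conj]
  have hinv : M.map (·⁻¹) = M := by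
    have hu : IsUnit (A.map (algebraMap F E)) := (Matrix.isUnit_iff_isUnit_det _).2 (isUnit_iff_ne_zero.2 hdet)
    have h1 : (A.map (algebraMap F E))⁻¹ = (A⁻¹).map (algebraMap F E) := by
      refine Matrix.inv_eq_right_inv ?_
      rw [← Matrix.map_mul, Matrix.mul_nonsing_inv _ (g.isUnit.map Matrix.detMonoidHom), Matrix.map_one _ (map_zero _) (map_one _)]
    have e := Matrix.charpoly_inv (A.map (algebraMap F E)) hu
    rw [h1, Matrix.charpoly_map, hinvP, ← Matrix.reverse_charpoly, hA, hprod] at e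
    have e2 := congrArg Polynomial.roots e
    rw [roots_multiset_prod_X_sub_C, ← map_one C, ← C_neg, ← C_pow, ← C_mul, roots_C_mul,
      roots_reverse_prod M h0] at e2
    · exact e2.symm
    · refine mul_ne_zero (pow_ne_zero _ (neg_ne_zero.2 one_ne_zero)) ?_
      rw [Ring.inverse_eq_inv]
      exact inv_ne_zero hdet
  have hfrob : M.map φ = M := by
    rw [hMd]
    conv_rhs => rw [show P.map (algebraMap F E) = (P.map (algebraMap F E)).map φ by
      rw [Polynomial.map_map]
      congr 1
      refine RingHom.ext fun x => ?_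
      rw [RingHom.comp_apply, hφ, ← map_pow, FiniteField.pow_card]]
    refine roots_map_of_injective_of_card_eq_natDegree φ.injective ?_
    rw [← hsplit.natDegree_eq_card_roots]
  have cinv : ∀ x, M.count x⁻¹ = M.count x := fun x => by
    conv_lhs => rw [← hinv]
    exact Multiset.count_map_eq_count' _ _ inv_injective x
  have cfrob : ∀ x (i : ℕ), M.count (x ^ q ^ i) = M.count x := fun x i => by
    induction i with
    | zero => simp
    | succ i ih =>
      rw [pow_succ, pow_mul, ← hφ, ← ih]
      conv_lhs => rw [← hfrob]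
      exact Multiset.count_map_eq_count' _ _ φ.injective _
  -- orbits
  set R : Finset E := M.toFinset.filter fun x => x ≠ 1 ∧ x ≠ -1
  have hR : ∀ x, x ∈ R ↔ x ∈ M ∧ x ≠ 1 ∧ x ≠ -1 := fun x => by simp [R]
  have powinj : ∀ i, Function.Injective fun x : E => x ^ q ^ i := fun i => by
    induction i with
    | zero => intro a b h; simpa using h
    | succ i ih =>
      intro a b h
      simp only [pow_succ, pow_mul] at h
      rw [← hφ, ← hφ] at h
      exact ih (φ.injective h)
  have hpm : ∀ i : ℕ, ((1 : E) ^ q ^ i = 1) ∧ ((-1 : E) ^ q ^ i = -1) := fun i => by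
    refine ⟨one_pow _, ?_⟩
    induction i with
    | zero => simp
    | succ i ih => rw [pow_succ, pow_mul, ih, ← hφ, map_neg, map_one]
  have Rfrob : ∀ x ∈ R, ∀ i : ℕ, x ^ q ^ i ∈ R := fun x hx i => by
    obtain ⟨h1, h2, h3⟩ := (hR x).1 hx
    refine (hR _).2 ⟨Multiset.count_pos.1 (by rw [cfrob]; exact Multiset.count_pos.2 h1),
      fun e => h2 (powinj i (e.trans (hpm i).1.symm)), fun e => h3 (powinj i (e.trans (hpm i).2.symm))⟩
  have Rinv : ∀ x ∈ R, x⁻¹ ∈ R := fun x hx => by
    obtain ⟨h1, h2, h3⟩ := (hR x).1 hx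
    exact (hR _).2 ⟨Multiset.count_pos.1 (by rw [cinv]; exact Multiset.count_pos.2 h1),
      fun e => h2 (inv_eq_one.1 e), fun e => h3 (by rw [← inv_inv x, e, inv_neg, inv_one])⟩
  have period : ∀ x ∈ R, ∃ s, 0 < s ∧ x ^ q ^ s = x := fun x hx => by
    obtain ⟨i, j, hne, e⟩ := Finite.exists_ne_map_eq_of_infinite fun i : ℕ => (⟨x ^ q ^ i, Rfrob x hx i⟩ : R)
    have e' : x ^ q ^ i = x ^ q ^ j := congrArg Subtype.val e
    wlog hij : i < j generalizing i j
    · exact this j i hne.symm e.symm e'.symm (by omega)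
    refine ⟨j - i, by omega, powinj i ?_⟩
    show (x ^ q ^ (j - i)) ^ q ^ i = x ^ q ^ i
    rw [← pow_mul, ← pow_add, Nat.sub_add_cancel hij.le, e']
  let rel : E → E → Prop := fun x y => ∃ i : ℕ, y = x ^ q ^ i ∨ y = (x ^ q ^ i)⁻¹
  let orb : E → Finset E := fun x => R.filter (rel x)
  have rel_symm : ∀ x ∈ R, ∀ y, rel x y → rel y x := by
    rintro x hx y ⟨i, hi⟩
    obtain ⟨s, hs, hsx⟩ := period x hx
    have hk : ∀ k, x ^ q ^ (s * k) = x := by
      intro k
      induction k with
      | zero => simp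
      | succ k ih => rw [Nat.mul_succ, pow_add, pow_mul, ih, hsx]
    have hle : i ≤ s * i := Nat.le_mul_of_pos_left i hs
    refine ⟨s * i - i, ?_⟩
    have e : (x ^ q ^ i) ^ q ^ (s * i - i) = x := by
      rw [← pow_mul, ← pow_add, Nat.add_sub_cancel' hle, hk]
    rcases hi with rfl | rfl
    · exact Or.inl e.symm
    · exact Or.inr (by rw [inv_pow, inv_inv, e])
  have rel_trans : ∀ x y z, rel x y → rel y z → rel x z := by
    rintro x y z ⟨i, hi⟩ ⟨j, hj⟩
    refine ⟨i + j, ?_⟩
    rw [pow_add, pow_mul]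
    rcases hi with rfl | rfl <;> rcases hj with rfl | rfl
    · exact Or.inl rfl
    · exact Or.inr rfl
    · exact Or.inr (inv_pow _ _)
    · exact Or.inl (by rw [inv_pow, inv_inv])
  have orb_eq : ∀ x ∈ R, ∀ y ∈ orb x, orb y = orb x := fun x hx y hy => by
    obtain ⟨hyR, hxy⟩ := Finset.mem_filter.1 hy
    exact Finset.filter_congr fun z _ => ⟨fun h => rel_trans x y z hxy h, fun h => rel_trans y x z (rel_symm x hx y hxy) h⟩
  have orb_self : ∀ x ∈ R, x ∈ orb x := fun x hx => Finset.mem_filter.2 ⟨hx, 0, Or.inl (by simp)⟩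
  have data : ∀ x ∈ R, ∃ (d : ℕ) (b : Bool), 1 ≤ d ∧ 2 * d ≤ (orb x).card ∧
      x ^ (if b then q ^ d + 1 else q ^ d - 1) = 1 := by
    intro x hx
    have hex := period x hx
    set s := Nat.find hex
    obtain ⟨hs, hsx⟩ := Nat.find_spec hex
    have hx0 : x ≠ 0 := fun e => h0 (e ▸ ((hR x).1 hx).1)
    have hinjs : ∀ i < s, ∀ j < s, x ^ q ^ i = x ^ q ^ j → i = j := by
      intro i hi j hj e
      by_contra hne
      wlog hij : i < j generalizing i j
      · exact this j hj i hi e.symm (Ne.symm hne) (by omega)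
      refine Nat.find_min hex (show j - i < s by omega) ⟨by omega, powinj i ?_⟩
      show (x ^ q ^ (j - i)) ^ q ^ i = x ^ q ^ i
      rw [← pow_mul, ← pow_add, Nat.sub_add_cancel hij.le, e]
    by_cases hi : ∃ i < s, x ^ q ^ i = x⁻¹
    · obtain ⟨i, his, hi⟩ := hi
      have hi0 : i ≠ 0 := by
        rintro rfl
        rw [pow_zero, pow_one, ← mul_eq_one_iff_eq_inv₀ hx0] at hi
        rcases mul_self_eq_one_iff.1 hi with h | h
        · exact ((hR x).1 hx).2.1 h
        · exact ((hR x).1 hx).2.2 h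
      have h2i : s = i + i := by
        have e : x ^ q ^ (i + i) = x := by rw [pow_add, pow_mul, hi, inv_pow, hi, inv_inv]
        by_contra hne
        by_cases hlt : i + i < s
        · exact Nat.find_min hex hlt ⟨by omega, e⟩
        · have e2 : x ^ q ^ (i + i - s) = x := by
            have e3 := e
            rw [show i + i = s + (i + i - s) by omega, pow_add, pow_mul, hsx] at e3
            exact e3
          exact Nat.find_min hex (show i + i - s < s by omega) ⟨by omega, e2⟩
      refine ⟨i, true, by omega, ?_, ?_⟩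
      · calc 2 * i = ((Finset.range s).image fun k => x ^ q ^ k).card := by
              rw [Finset.card_image_of_injOn fun a ha b hb => hinjs a (Finset.mem_range.1 ha) b (Finset.mem_range.1 hb),
                Finset.card_range]; omega
          _ ≤ _ := Finset.card_le_card fun y hy => by
              obtain ⟨k, -, rfl⟩ := Finset.mem_image.1 hy
              exact Finset.mem_filter.2 ⟨Rfrob x hx k, k, Or.inl rfl⟩
      · rw [if_pos rfl, pow_succ, hi, inv_mul_cancel₀ hx0]
    · push Not at hi
      refine ⟨s, false, hs, ?_, ?_⟩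
      · have hd : Disjoint ((Finset.range s).image fun k => x ^ q ^ k) ((Finset.range s).image fun k => (x ^ q ^ k)⁻¹) := by
          rw [Finset.disjoint_left]
          intro y hy hy'
          obtain ⟨a, ha, rfl⟩ := Finset.mem_image.1 hy
          obtain ⟨b, hb, e⟩ := Finset.mem_image.1 hy'
          rw [Finset.mem_range] at ha hb
          rcases Nat.lt_or_ge a b with hab | hab
          · refine hi (a + s - b) (by omega) (powinj b ?_)
            show (x ^ q ^ (a + s - b)) ^ q ^ b = x⁻¹ ^ q ^ b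
            rw [← pow_mul, ← pow_add, show a + s - b + b = s + a by omega, pow_add, pow_mul, hsx, inv_pow, e]
          · refine hi (a - b) (by omega) (powinj b ?_)
            show (x ^ q ^ (a - b)) ^ q ^ b = x⁻¹ ^ q ^ b
            rw [← pow_mul, ← pow_add, Nat.sub_add_cancel hab, inv_pow, e]
        calc 2 * s = (((Finset.range s).image fun k => x ^ q ^ k) ∪
            ((Finset.range s).image fun k => (x ^ q ^ k)⁻¹)).card := by
              rw [Finset.card_union_of_disjoint hd,
                Finset.card_image_of_injOn fun a ha b hb => hinjs a (Finset.mem_range.1 ha) b (Finset.mem_range.1 hb),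
                Finset.card_image_of_injOn fun a ha b hb h =>
                  hinjs a (Finset.mem_range.1 ha) b (Finset.mem_range.1 hb) (inv_injective h), Finset.card_range]
              omega
          _ ≤ _ := Finset.card_le_card fun y hy => by
              rcases Finset.mem_union.1 hy with hy | hy <;> obtain ⟨k, -, rfl⟩ := Finset.mem_image.1 hy
              · exact Finset.mem_filter.2 ⟨Rfrob x hx k, k, Or.inl rfl⟩
              · exact Finset.mem_filter.2 ⟨Rinv _ (Rfrob x hx k), k, Or.inr rfl⟩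
      · rw [if_neg (by simp)]
        refine mul_right_cancel₀ hx0 ?_
        rw [one_mul, ← pow_succ, Nat.sub_add_cancel (Nat.one_le_pow _ _ (by omega)), hsx]
  set Os := R.image orb
  have hrep : ∀ O ∈ Os, ∃ x ∈ R, orb x = O := fun O hO => Finset.mem_image.1 hO
  choose! rep hrepR hrepO using hrep
  choose! d b hd1 hd2 hdx using data
  set D := ∑ O ∈ Os, d (rep O)
  set a := M.count (1 : E)
  set a' := if (-1 : E) = 1 then 0 else M.count (-1 : E)
  -- counting
  have hcount : 2 * ∑ O ∈ Os, d (rep O) * M.count (rep O) + a + a' ≤ Fintype.card ι := by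
    have hc : ∀ O ∈ Os, 2 * (d (rep O) * M.count (rep O)) ≤ ∑ x ∈ R.filter (fun x => orb x = O), M.count x := by
      intro O hO
      calc 2 * (d (rep O) * M.count (rep O)) ≤ O.card * M.count (rep O) := by
            rw [← mul_assoc]; refine Nat.mul_le_mul_right _ ?_
            have := hd2 _ (hrepR O hO)
            rwa [hrepO O hO] at this
        _ = ∑ x ∈ O, M.count x := by
            rw [Finset.sum_const_nat fun x hx => ?_]
            have hx' : x ∈ orb (rep O) := by rwa [hrepO O hO]
            obtain ⟨-, i, h | h⟩ := Finset.mem_filter.1 hx'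
            · rw [h, cfrob]
            · rw [h, cinv, cfrob]
        _ ≤ _ := Finset.sum_le_sum_of_subset fun x hx => by
            have hx' : x ∈ orb (rep O) := by rwa [hrepO O hO]
            exact Finset.mem_filter.2 ⟨(Finset.mem_filter.1 hx').1,
              (orb_eq _ (hrepR O hO) x hx').trans (hrepO O hO)⟩
    have h1 : 2 * ∑ O ∈ Os, d (rep O) * M.count (rep O) ≤ ∑ x ∈ R, M.count x := by
      rw [Finset.mul_sum, ← Finset.sum_fiberwise_of_maps_to (t := Os) (g := orb) fun x hx => Finset.mem_image_of_mem orb hx]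
      exact Finset.sum_le_sum hc
    have h2 : ∑ x ∈ R, M.count x + a + a' ≤ M.card := by
      have e : ∑ x ∈ M.toFinset ∪ {1, -1}, M.count x = M.card :=
        Multiset.sum_count_eq_card fun x hx => Finset.mem_union_left _ (Multiset.mem_toFinset.2 hx)
      rw [← e]
      have hsub : R ∪ {1, -1} ⊆ M.toFinset ∪ {1, -1} := Finset.union_subset_union (Finset.filter_subset _ _) le_rfl
      refine le_trans ?_ (Finset.sum_le_sum_of_subset hsub)
      rw [Finset.sum_union (by
        rw [Finset.disjoint_left]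
        intro x hx hx'
        obtain ⟨-, h2, h3⟩ := (hR x).1 hx
        simp [h2, h3] at hx'), add_assoc]
      refine Nat.add_le_add_left ?_ _
      by_cases h : (-1 : E) = 1
      · simp [a', h, a]
      · rw [Finset.sum_pair (Ne.symm h)]; simp [a', h, a]
    omega
  have hde : ∀ O ∈ Os, D + d (rep O) * (M.count (rep O) - 1) ≤ ∑ O ∈ Os, d (rep O) * M.count (rep O) := by
    intro O hO
    have e : ∑ O ∈ Os, d (rep O) * M.count (rep O) = D + ∑ O ∈ Os, d (rep O) * (M.count (rep O) - 1) := by
      rw [← Finset.sum_add_distrib]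
      refine Finset.sum_congr rfl fun O hO => ?_
      have : 1 ≤ M.count (rep O) := Multiset.one_le_count_iff_mem.2 ((hR _).1 (hrepR O hO)).1
      obtain ⟨e, he⟩ : ∃ e, M.count (rep O) = e + 1 := ⟨M.count (rep O) - 1, by omega⟩
      rw [he, Nat.add_sub_cancel]; ring
    rw [e]
    exact Nat.add_le_add_left (Finset.single_le_sum (f := fun O => d (rep O) * (M.count (rep O) - 1)) (fun _ _ => Nat.zero_le _) hO) _
  obtain ⟨L₀, hL₀, hLdvd, hLle⟩ := lcm_bound hq2 Os (fun O => d (rep O)) (fun O => b (rep O))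
    (fun O hO => hd1 _ (hrepR O hO))
  -- the main estimate
  have finish : ∀ L c, 0 < L → (∀ x ∈ M, x ^ L = 1) → (∀ x ∈ M, M.count x ≤ p ^ c) →
      (q - 1) * (L * p ^ c) ≤ q ^ (m + 1) → (q - 1) * orderOf g ≤ q ^ (m + 1) := by
    intro L c hL hroot hmult hle
    refine le_trans (Nat.mul_le_mul_left _ (Nat.le_of_dvd (Nat.mul_pos hL (pow_pos hpp.pos _)) ?_)) hle
    refine orderOf_dvd_of_pow_eq_one ?_
    have hne : (X ^ L - 1 : E[X]) ≠ 0 := by rw [← map_one C]; exact X_pow_sub_C_ne_zero hL 1
    have hdist : (M.dedup.map fun a => X - C a).prod ∣ (X ^ L - 1 : E[X]) := by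
      rw [Multiset.prod_X_sub_C_dvd_iff_le_roots hne, Multiset.le_iff_subset (Multiset.nodup_dedup M)]
      intro x hx
      rw [mem_roots hne]
      simp [hroot x (Multiset.mem_dedup.1 hx)]
    have h1 : P.map (algebraMap F E) ∣ (X ^ L - 1 : E[X]) ^ p ^ c := by
      rw [hprod]
      refine dvd_trans ?_ (pow_dvd_pow_of_dvd hdist _)
      rw [← Multiset.prod_nsmul, ← Multiset.map_nsmul]
      refine Multiset.prod_dvd_prod_of_le (Multiset.map_le_map (Multiset.le_iff_count.2 fun x => ?_))
      rw [Multiset.count_nsmul]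
      by_cases hx : x ∈ M
      · rw [Multiset.count_eq_one_of_mem (Multiset.nodup_dedup M) (Multiset.mem_dedup.2 hx), mul_one]
        exact hmult x hx
      · rw [Multiset.count_eq_zero_of_notMem hx]; exact Nat.zero_le _
    rw [sub_pow_char_pow, one_pow, ← pow_mul] at h1
    have h2 : P ∣ X ^ (L * p ^ c) - 1 := by
      rw [← Polynomial.map_dvd_map' (algebraMap F E)]
      simpa using h1
    obtain ⟨S, hS⟩ := h2
    have h3 := congrArg (aeval A) hS
    rw [map_mul, hPd, Matrix.aeval_self_charpoly, zero_mul, map_sub, map_pow, aeval_X, map_one, sub_eq_zero] at h3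
    exact Units.ext (by rw [Units.val_pow_eq_pow_val]; exact h3)
  have hroot₀ : ∀ x ∈ R, x ^ L₀ = 1 := by
    intro x hx
    have hO : orb x ∈ Os := Finset.mem_image_of_mem orb hx
    have hxm : x ∈ orb (rep (orb x)) := by rw [hrepO _ hO]; exact orb_self x hx
    obtain ⟨k, hk⟩ := hLdvd _ hO
    have hr : rep (orb x) ^ L₀ = 1 := by rw [hk, pow_mul, hdx _ (hrepR _ hO), one_pow]
    obtain ⟨-, i, h | h⟩ := Finset.mem_filter.1 hxm
    · rw [h, ← pow_mul, mul_comm, pow_mul, hr, one_pow]
    · rw [h, inv_pow, ← pow_mul, mul_comm, pow_mul, hr, one_pow, inv_one]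
  have hp2 := hpp.two_le
  have hsucc : ∀ k, k + 1 ≤ p ^ k := fun k => Nat.lt_pow_self hp2
  have hchar2 : (2 : F) = 0 ↔ p = 2 := by
    refine ⟨fun h => ?_, fun h => ?_⟩
    · exact (Nat.prime_dvd_prime_iff_eq hpp Nat.prime_two).1 ((CharP.cast_eq_zero_iff F p 2).1 (by exact_mod_cast h))
    · have := CharP.cast_eq_zero F p; rw [h] at this; exact_mod_cast this
  have hneg : (-1 : E) = 1 ↔ p = 2 := by
    constructor
    · intro h
      exact (Nat.prime_dvd_prime_iff_eq hpp Nat.prime_two).1
        ((CharP.cast_eq_zero_iff E p 2).1 (by push_cast; linear_combination -h))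
    · intro h
      have := CharP.cast_eq_zero E p
      rw [h] at this
      push_cast at this
      linear_combination -this
  have hbig : ∀ k, 1 ≤ k → p ≠ 2 → 2 * k + 1 ≤ p ^ k := by
    intro k hk hne
    have h3 : 3 ≤ p := by omega
    induction k, hk using Nat.le_induction with
    | base => simpa using h3
    | succ k hk ih => rw [pow_succ]; nlinarith
  have hmem : ∀ x ∈ M, x = 1 ∨ x = -1 ∨ x ∈ R := fun x hx => by
    by_cases h1 : x = 1
    · exact Or.inl h1
    by_cases h2 : x = -1
    · exact Or.inr (Or.inl h2)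
    exact Or.inr (Or.inr ((hR x).2 ⟨hx, h1, h2⟩))
  rcases Os.eq_empty_or_nonempty with hOs | ⟨O₁, hO₁⟩
  · have hRe : ∀ x, x ∉ R := fun x hx => by
      have := Finset.mem_image_of_mem orb hx
      rw [show R.image orb = ∅ from hOs] at this
      exact Finset.notMem_empty _ this
    by_cases hp' : p = 2
    · have hcd := hev (hchar2.2 hp')
      refine finish 1 m one_pos (fun x hx => ?_) (fun x hx => ?_) ?_
      · rcases hmem x hx with rfl | rfl | h
        · exact one_pow _
        · rw [hneg.2 hp', one_pow]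
        · exact absurd h (hRe x)
      · refine le_trans ((Multiset.count_le_card _ M).trans (hMcard.le.trans hcd)) ?_
        have e : ∀ k, 1 ≤ k → 2 * k ≤ p ^ k := by
          intro k hk
          induction k, hk using Nat.le_induction with
          | base => simpa using hp2
          | succ k hk ih => rw [pow_succ]; nlinarith
        exact e m (by omega)
      · have : p ^ m ≤ q ^ m := Nat.pow_le_pow_left (hcard ▸ Nat.le_self_pow (by omega) p) m
        rw [pow_succ, one_mul]
        calc (q - 1) * p ^ m ≤ q * q ^ m := Nat.mul_le_mul (Nat.sub_le _ _) this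
          _ = _ := mul_comm _ _
    · refine finish 2 (m - 1) two_pos (fun x hx => ?_) (fun x hx => ?_) ?_
      · rcases hmem x hx with rfl | rfl | h
        · exact one_pow _
        · exact neg_one_sq
        · exact absurd h (hRe x)
      · refine le_trans ((Multiset.count_le_card _ M).trans (hMcard.le.trans hn)) ?_
        have e : ∀ k, 2 ≤ k → 2 * k + 3 ≤ p ^ k := by
          intro k hk
          have h3 : 3 ≤ p := by omega
          induction k, hk using Nat.le_induction with
          | base => nlinarith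
          | succ k hk ih => rw [pow_succ]; nlinarith
        have := e (m - 1) (by omega)
        omega
      · have : p ^ (m - 1) ≤ q ^ (m - 1) := Nat.pow_le_pow_left (hcard ▸ Nat.le_self_pow (by omega) p) _
        have e : q ^ (m + 1) = q * q * q ^ (m - 1) := by rw [← pow_two, ← pow_add]; congr 1; omega
        rw [e, ← mul_assoc]
        refine Nat.mul_le_mul ?_ this
        calc (q - 1) * 2 ≤ q * q := Nat.mul_le_mul (Nat.sub_le _ _) hq2
          _ = _ := rfl
  have hDle : ∀ O ∈ Os, D + d (rep O) * (M.count (rep O) - 1) ≤ m := fun O hO => by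
    have := hde O hO
    omega
  have hD1 := hDle O₁ hO₁
  have hDe : D ≤ ∑ O ∈ Os, d (rep O) * M.count (rep O) := le_trans (Nat.le_add_right _ _) (hde O₁ hO₁)
  refine finish L₀ (m - D) hL₀ (fun x hx => ?_) (fun x hx => ?_) ?_
  · rcases hmem x hx with rfl | rfl | h
    · exact one_pow _
    · by_cases hp' : p = 2
      · rw [hneg.2 hp', one_pow]
      · have hqodd : Odd q := by rw [hcard]; exact (hpp.odd_of_ne_two hp').pow
        obtain ⟨k, hk⟩ := hLdvd O₁ hO₁
        rw [hk, pow_mul]
        have hqd := hqodd.pow (n := d (rep O₁))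
        have : Even (if b (rep O₁) = true then q ^ d (rep O₁) + 1 else q ^ d (rep O₁) - 1) := by
          split_ifs
          · exact hqd.add_one
          · obtain ⟨c, hc⟩ := hqd; exact ⟨c, by omega⟩
        rw [this.neg_one_pow, one_pow]
    · exact hroot₀ x h
  · rcases hmem x hx with rfl | rfl | h
    · change a ≤ _
      by_cases hp' : p = 2
      · have hcd := hev (hchar2.2 hp')
        rcases Nat.lt_or_ge a 2 with ha | ha
        · exact (Nat.le_of_lt_succ ha).trans (Nat.one_le_pow _ _ hpp.pos)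
        have hk : (a + 1) / 2 ≤ m - D := by omega
        refine le_trans ?_ (Nat.pow_le_pow_right hpp.pos hk)
        have e : ∀ k, 1 ≤ k → 2 * k ≤ p ^ k := by
          intro k hk
          induction k, hk using Nat.le_induction with
          | base => simpa using hp2
          | succ k hk ih => rw [pow_succ]; nlinarith
        have := e ((a + 1) / 2) (by omega)
        omega
      · rcases Nat.lt_or_ge a 2 with ha | ha
        · exact (Nat.le_of_lt_succ ha).trans (Nat.one_le_pow _ _ hpp.pos)
        refine le_trans ?_ (Nat.pow_le_pow_right hpp.pos (show a / 2 ≤ m - D by omega))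
        have := hbig (a / 2) (by omega) hp'
        omega
    · by_cases hp' : p = 2
      · have hcd := hev (hchar2.2 hp')
        rw [hneg.2 hp']
        change a ≤ _
        rcases Nat.lt_or_ge a 2 with ha | ha
        · exact (Nat.le_of_lt_succ ha).trans (Nat.one_le_pow _ _ hpp.pos)
        have hk : (a + 1) / 2 ≤ m - D := by omega
        refine le_trans ?_ (Nat.pow_le_pow_right hpp.pos hk)
        have e : ∀ k, 1 ≤ k → 2 * k ≤ p ^ k := by
          intro k hk
          induction k, hk using Nat.le_induction with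
          | base => simpa using hp2
          | succ k hk ih => rw [pow_succ]; nlinarith
        have := e ((a + 1) / 2) (by omega)
        omega
      · have ha' : a' = M.count (-1 : E) := if_neg fun h => hp' (hneg.1 h)
        rw [← ha']
        rcases Nat.lt_or_ge a' 2 with ha | ha
        · exact (Nat.le_of_lt_succ ha).trans (Nat.one_le_pow _ _ hpp.pos)
        refine le_trans ?_ (Nat.pow_le_pow_right hpp.pos (show a' / 2 ≤ m - D by omega))
        have := hbig (a' / 2) (by omega) hp'
        omega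
    · have hO : orb x ∈ Os := Finset.mem_image_of_mem orb h
      have hxm : x ∈ orb (rep (orb x)) := by rw [hrepO _ hO]; exact orb_self x h
      have he : M.count x = M.count (rep (orb x)) := by
        obtain ⟨-, i, e | e⟩ := Finset.mem_filter.1 hxm
        · exact (congrArg (fun z => M.count z) e).trans (cfrob _ i)
        · exact (congrArg (fun z => M.count z) e).trans ((cinv _).trans (cfrob _ i))
      rw [he]
      have h1 := hd1 _ (hrepR _ hO)
      have h2 := hDle _ hO
      set e := M.count (rep (orb x))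
      have h3 : e - 1 ≤ d (rep (orb x)) * (e - 1) := Nat.le_mul_of_pos_left _ h1
      refine le_trans ?_ (Nat.pow_le_pow_right hpp.pos (show e - 1 ≤ m - D by omega))
      have := hsucc (e - 1)
      omega
  · have hpq : p ^ (m - D) ≤ q ^ (m - D) := Nat.pow_le_pow_left (hcard ▸ Nat.le_self_pow (by
      rintro rfl; rw [pow_zero] at hcard; omega) p) _
    calc (q - 1) * (L₀ * p ^ (m - D)) = ((q - 1) * L₀) * p ^ (m - D) := by ring
      _ ≤ q ^ (D + 1) * q ^ (m - D) := Nat.mul_le_mul hLle hpq
      _ = _ := by rw [← pow_add]; congr 1; omega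

end Cfsg.Agent.OrthOrders
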